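import Mathlib.RingTheory.TensorProduct.IncludeLeftSubRight

/-!
# Faithfully flat descent of elements
-/

set_option autoImplicit false
universe u

open scoped TensorProduct

namespace K724.FfDesc

/-- (DESC) elements with equal images in `C ⊗ C` come from `D`. -/
theorem exists_of_eq (D C : Type u) [CommRing D] [CommRing C] [Algebra D C] [Module.FaithfullyFlat D C] (c : C)
    (hc : (1 : C) ⊗ₜ[D] c = c ⊗ₜ[D] (1 : C)) : ∃ d : D, algebraMap D C d = c := by
  have h := Algebra.IsEffective.of_faithfullyFlat D C
  have h1 := (h c).1 (by rw [Algebra.TensorProduct.includeLeftSubRight_apply, hc, sub_self])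
  obtain ⟨d, hd⟩ := h1
  exact ⟨d, hd⟩

end K724.FfDesc
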